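import Mathlib
import Groth.Agent.SplitCoverLib.Basic
import Groth.Agent.CMSliceLib.Section
import Groth.Prelude.Def_Mor2

/-!
Refining fppf coverings by Zariski coverings and finite locally free surjections.
-/

set_option autoImplicit false
universe w u
open CategoryTheory CategoryTheory.Limits AlgebraicGeometry

namespace Groth.Agent.FppfRefineLib

theorem isFinLocFree_specMap {R R' : Type u} [CommRing R] [CommRing R'] [Algebra R R']
    [Module.Finite R R'] [Algebra.FinitePresentation R R'] [Module.Flat R R'] :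
    Mor2.IsFinLocFree (Spec.map (CommRingCat.ofHom (algebraMap R R'))) := by
  refine ⟨(IsFinite.SpecMap_iff _).2 (RingHom.finite_algebraMap.2 inferInstance),
    (Flat.SpecMap_iff).2 (RingHom.flat_algebraMap_iff.2 inferInstance), ?_⟩
  rw [HasRingHomProperty.Spec_iff (P := @LocallyOfFinitePresentation)]
  exact RingHom.finitePresentation_algebraMap.2 inferInstance

theorem isFinLocFree_comp {X Y Z : Scheme.{u}} {f : X ⟶ Y} {g : Y ⟶ Z} (hf : Mor2.IsFinLocFree f)
    (hg : Mor2.IsFinLocFree g) : Mor2.IsFinLocFree (f ≫ g) := by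
  obtain ⟨a, b, c⟩ := hf
  obtain ⟨a', b', c'⟩ := hg
  exact ⟨inferInstance, inferInstance, inferInstance⟩

theorem isFinLocFree_snd {X Y Z : Scheme.{u}} {f : X ⟶ Z} (hf : Mor2.IsFinLocFree f) (g : Y ⟶ Z) :
    Mor2.IsFinLocFree (pullback.snd f g) := by
  obtain ⟨a, b, c⟩ := hf
  exact ⟨inferInstance, inferInstance, inferInstance⟩

/-- An étale surjection onto an affine scheme, from an affine one, has sections Zariski locally on
a finite locally free surjection. -/
theorem exists_finLocFree_sections {R A : CommRingCat.{u}} (φ : R ⟶ A) (hφ : φ.hom.Etale)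
    (hs : Function.Surjective (Spec.map φ)) :
    ∃ (R' : CommRingCat.{u}) (ψ : R ⟶ R'), Mor2.IsFinLocFree (Spec.map ψ) ∧ Surjective (Spec.map ψ) ∧
      ∀ w : Spec R', ∃ (W' : (Spec R').Opens) (k : W'.toScheme ⟶ Spec A),
        w ∈ W' ∧ k ≫ Spec.map φ = W'.ι ≫ Spec.map ψ := by
  letI := φ.hom.toAlgebra
  haveI : Algebra.Etale R A := hφ
  obtain ⟨S', i1, i2, h1, h2, h3, h4, h5⟩ :=
    SplitCoverLib.exists_dominating_etale (R := (R : Type u)) (A : Type u) hs
  refine ⟨CommRingCat.of S', CommRingCat.ofHom (algebraMap R S'), isFinLocFree_specMap, ⟨h4⟩,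
    fun w => ?_⟩
  haveI : w.asIdeal.IsPrime := w.isPrime
  obtain ⟨g', hg', ⟨F⟩⟩ := h5 w.asIdeal
  let j : Spec (CommRingCat.of (Localization.Away g')) ⟶ Spec (CommRingCat.of S') :=
    Spec.map (CommRingCat.ofHom (algebraMap S' (Localization.Away g')))
  haveI : IsOpenImmersion j := IsOpenImmersion.of_isLocalization g'
  refine ⟨j.opensRange, j.isoOpensRange.inv ≫ Spec.map (CommRingCat.ofHom F.toRingHom), ?_, ?_⟩
  · show w ∈ Set.range j
    rw [show Set.range j = _ from PrimeSpectrum.localization_away_comap_range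
      (Localization.Away g') g']
    exact hg'
  · have e : φ ≫ CommRingCat.ofHom F.toRingHom = CommRingCat.ofHom (algebraMap R S') ≫
        CommRingCat.ofHom (algebraMap S' (Localization.Away g')) := by
      ext x
      show F (algebraMap R A x) = _
      rw [F.commutes, IsScalarTower.algebraMap_apply R S' (Localization.Away g')]
      rfl
    rw [Category.assoc, ← Spec.map_comp, e, Spec.map_comp]
    rw [Scheme.Hom.isoOpensRange_inv_comp_assoc]

/-- **Refinement of a single fppf morphism near a point.** -/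
theorem exists_refinement {X S : Scheme.{u}} (f : X ⟶ S) [Flat f] [LocallyOfFinitePresentation f]
    (s : S) (hs : s ∈ Set.range f) :
    ∃ (U : S.Opens) (W : Scheme.{u}) (π : W ⟶ U.toScheme), s ∈ U ∧ IsAffineOpen U ∧ IsAffine W ∧
      Mor2.IsFinLocFree π ∧ Surjective π ∧
      ∀ w : W, ∃ (W' : W.Opens) (T : Scheme.{u}) (ρ : T ⟶ W'.toScheme) (r : T ⟶ X),
        w ∈ W' ∧ Mor2.IsFinLocFree ρ ∧ Surjective ρ ∧ r ≫ f = ρ ≫ W'.ι ≫ π ≫ U.ι := by
  obtain ⟨S', V, e, π₀, r, y, he, hy, -, h1, h2, h3, h4, h5⟩ :=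
    CMSliceLib.exists_etale_finite_flat_section f s hs
  haveI := he
  obtain ⟨U₀, hU₀, hsU₀, -⟩ := exists_isAffineOpen_mem_and_subset (x := s) (U := ⊤) trivial
  obtain ⟨Y₀, hY₀, hyY₀, (hY₀U : Y₀ ≤ e ⁻¹ᵁ U₀)⟩ := exists_isAffineOpen_mem_and_subset (x := y) (U := e ⁻¹ᵁ U₀)
    (show e y ∈ U₀ by rw [hy]; exact hsU₀)
  let O : S.Opens := ⟨e '' (Y₀ : Set S'), e.isOpenMap _ Y₀.isOpen⟩
  obtain ⟨c, hcO, hsc⟩ := hU₀.exists_basicOpen_le (V := O) ⟨s, y, hyY₀, hy⟩ hsU₀
  set U := S.basicOpen c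
  set Y := S'.basicOpen (e.appLE U₀ Y₀ hY₀U c)
  have hU : IsAffineOpen U := hU₀.basicOpen c
  have hY : IsAffineOpen Y := hY₀.basicOpen _
  have hYeq : Y = Y₀ ⊓ e ⁻¹ᵁ U := by
    show S'.basicOpen _ = _
    rw [Scheme.basicOpen_appLE]
  have hYU : Y ≤ e ⁻¹ᵁ U := hYeq ▸ inf_le_right
  have hsurj : Function.Surjective (Spec.map (e.appLE U Y hYU)) := by
    intro p
    have hp : hU.fromSpec p ∈ U := hU.range_fromSpec.subset ⟨p, rfl⟩
    obtain ⟨y', hy', hy'e⟩ := hcO hp
    have : y' ∈ Y := by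
      rw [hYeq]; exact ⟨hy', by show e y' ∈ U; rw [hy'e]; exact hp⟩
    rw [← SetLike.mem_coe, ← hY.range_fromSpec] at this
    obtain ⟨q, rfl⟩ := this
    refine ⟨q, hU.fromSpec.isOpenEmbedding.injective ?_⟩
    rw [← hy'e, ← Scheme.Hom.comp_apply, ← Scheme.Hom.comp_apply, hU.SpecMap_appLE_fromSpec e hY hYU]
  have het : (e.appLE U Y hYU).hom.Etale :=
    HasRingHomProperty.appLE (P := @Etale) _ he ⟨U, hU⟩ ⟨Y, hY⟩ hYU
  obtain ⟨R', ψ, hψ, hψs, hW⟩ := exists_finLocFree_sections _ het hsurj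
  haveI := hψs
  refine ⟨U, Spec R', Spec.map ψ ≫ hU.isoSpec.inv, hsc, hU, inferInstance,
    isFinLocFree_comp hψ ⟨inferInstance, inferInstance, inferInstance⟩, inferInstance, fun w => ?_⟩
  obtain ⟨W', k, hw, hk⟩ := hW w
  let h : W'.toScheme ⟶ S' := k ≫ hY.fromSpec
  have h2' : Mor2.IsFinLocFree π₀ := ⟨h2, h3, h4⟩
  refine ⟨W', pullback π₀ h, pullback.snd π₀ h, pullback.fst π₀ h ≫ r, hw,
    isFinLocFree_snd h2' h, inferInstance, ?_⟩
  rw [Category.assoc, h5, pullback.condition_assoc]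
  simp only [h, Category.assoc]
  rw [← hU.SpecMap_appLE_fromSpec e hY hYU, reassoc_of% hk, IsAffineOpen.isoSpec_inv_ι]

end Groth.Agent.FppfRefineLib
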