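import Groth.Agent.FppfRefineLib.Basic
import Groth.Agent.ASp.UnramDiag

/-!
# Étale neighbourhoods are dominated by finite locally free Zariski covers
-/

set_option autoImplicit false
set_option backward.isDefEq.respectTransparency false
set_option linter.style.haveILetI false

open AlgebraicGeometry CategoryTheory Limits Topology

universe u

namespace Groth.Agent.FppfRefineLib

theorem exists_finLocFree_dominating {U S : Scheme.{u}} (e : U ⟶ S) [Etale e] (u : U) (s : S) (hu : e u = s) :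
    ∃ (V : S.Opens) (T : Scheme.{u}) (π : T ⟶ V.toScheme), s ∈ V ∧ IsAffineOpen V ∧ Surjective π ∧ IsFinite π ∧
      Flat π ∧ LocallyOfFinitePresentation π ∧
      ∀ t : T, V.ι (π t) = s → ∃ (W : T.Opens) (h : W.toScheme ⟶ U), t ∈ W ∧ h ≫ e = W.ι ≫ π ≫ V.ι ∧
        ∀ ht : t ∈ W, h ⟨t, ht⟩ = u := by
  haveI : LocallyQuasiFinite e := ASp.locallyQuasiFinite_of_etale_self e
  obtain ⟨N, hN, hNu⟩ := isDiscrete_iff_forall_exists_isOpen.1 (e.isDiscrete_preimage_singleton s) u hu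
  obtain ⟨U₀, hU₀, hsU₀, -⟩ := exists_isAffineOpen_mem_and_subset (x := s) (U := ⊤) trivial
  obtain ⟨Y₀, hY₀, hyY₀, hY₀le⟩ := exists_isAffineOpen_mem_and_subset (x := u) (U := e ⁻¹ᵁ U₀ ⊓ ⟨N, hN⟩)
    ⟨show e u ∈ U₀ by rw [hu]; exact hsU₀, (hNu.ge rfl).1⟩
  have hY₀U : Y₀ ≤ e ⁻¹ᵁ U₀ := fun a ha => (hY₀le ha).1
  let O : S.Opens := ⟨e '' (Y₀ : Set U), e.isOpenMap _ Y₀.isOpen⟩
  obtain ⟨c, hcO, hsc⟩ := hU₀.exists_basicOpen_le (V := O) ⟨s, u, hyY₀, hu⟩ hsU₀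
  set V := S.basicOpen c
  set Y := U.basicOpen (e.appLE U₀ Y₀ hY₀U c)
  have hV : IsAffineOpen V := hU₀.basicOpen c
  have hY : IsAffineOpen Y := hY₀.basicOpen _
  have hYeq : Y = Y₀ ⊓ e ⁻¹ᵁ V := by
    show U.basicOpen _ = _
    rw [Scheme.basicOpen_appLE]
  have hYV : Y ≤ e ⁻¹ᵁ V := hYeq ▸ inf_le_right
  have hsurj : Function.Surjective (Spec.map (e.appLE V Y hYV)) := by
    intro p
    have hp : hV.fromSpec p ∈ V := hV.range_fromSpec.subset ⟨p, rfl⟩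
    obtain ⟨y', hy', hy'e⟩ := hcO hp
    have : y' ∈ Y := by
      rw [hYeq]; exact ⟨hy', by show e y' ∈ V; rw [hy'e]; exact hp⟩
    rw [← SetLike.mem_coe, ← hY.range_fromSpec] at this
    obtain ⟨q, rfl⟩ := this
    refine ⟨q, hV.fromSpec.isOpenEmbedding.injective ?_⟩
    rw [← hy'e, ← Scheme.Hom.comp_apply, ← Scheme.Hom.comp_apply, hV.SpecMap_appLE_fromSpec e hY hYV]
  have het : (e.appLE V Y hYV).hom.Etale :=
    HasRingHomProperty.appLE (P := @Etale) _ ‹_› ⟨V, hV⟩ ⟨Y, hY⟩ hYV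
  obtain ⟨R', ψ, ⟨hψ1, hψ2, hψ3⟩, hψs, hW⟩ := exists_finLocFree_sections _ het hsurj
  refine ⟨V, Spec R', Spec.map ψ ≫ hV.isoSpec.inv, hsc, hV, inferInstance, inferInstance, inferInstance,
    inferInstance, fun t ht => ?_⟩
  obtain ⟨W, k, htW, hk⟩ := hW t
  have hh : (k ≫ hY.fromSpec) ≫ e = W.ι ≫ (Spec.map ψ ≫ hV.isoSpec.inv) ≫ V.ι := by
    simp only [Category.assoc]
    rw [← hV.SpecMap_appLE_fromSpec e hY hYV, reassoc_of% hk, IsAffineOpen.isoSpec_inv_ι]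
  refine ⟨W, k ≫ hY.fromSpec, htW, hh, fun ht' => ?_⟩
  have h1 : (k ≫ hY.fromSpec) ⟨t, ht'⟩ ∈ Y := by
    rw [Scheme.Hom.comp_apply]
    exact hY.range_fromSpec.subset ⟨_, rfl⟩
  have h2 : e ((k ≫ hY.fromSpec) ⟨t, ht'⟩) = s := by
    rw [← Scheme.Hom.comp_apply, hh]
    exact ht
  refine hNu.le ⟨(hY₀le ?_).2, h2⟩
  have h3 : (k ≫ hY.fromSpec) ⟨t, ht'⟩ ∈ Y₀ ⊓ e ⁻¹ᵁ V := hYeq ▸ h1
  exact h3.1

end Groth.Agent.FppfRefineLib
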